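import Cfsg.Agent.S0256
import Cfsg.Agent.H748.Rad2Alt

/-!
# `L₄(2)`, automorphisms of order two (helper150, for S3832, S4336)
-/

set_option autoImplicit false

namespace Cfsg.Agent.H150.RadTwo.PslFourTwo

open Cfsg.Agent.H483.Rad23

/-- **The row `L₄(2) ≅ A₈`, involutions.** -/
theorem row2_psl42 {K : Type*} [Group K] [Finite K] [IsSimpleGroup K] {F : Type} [Field F] [Fintype F]
    (hF : Fintype.card F = 2) (e : Nonempty (K ≃* Matrix.ProjectiveSpecialLinearGroup (Fin 4) F)) :
    Cfsg.Agent.H483.Rad23.Row23 2 K := by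
  obtain ⟨e⟩ := e
  obtain ⟨e'⟩ := S0256.result hF
  exact Row23.congr (e.trans e') (H748.Rad2Alt.row2_alt (by norm_num))

end Cfsg.Agent.H150.RadTwo.PslFourTwo
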