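import Cfsg.Agent.H216.Rad3.SpSix
import Cfsg.Agent.H483.Rad23.Base

/-!
# `Sp₆(2)`, elements of order two (helper150, for S3832, S4336)

* `exists_basis` : an involution of `Sp₆(2)` has one of five explicit matrices `bm κ` in a symplectic basis;
* `row2_sp62`.
-/

set_option autoImplicit false
set_option maxRecDepth 10000

namespace Cfsg.Agent.H150.RadTwo.SpSix

open Subgroup Matrix Cfsg.Agent.H459.Rad Cfsg.Agent.H459.Iface Cfsg.Agent.H483.Rad23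
open Cfsg.Agent.StandardComponent.SpTwoAut Cfsg.Agent.H216.Rad3.SpSix

section abs

variable {V : Type*} [AddCommGroup V] [Module (ZMod 2) V]

theorem symm_of (B : LinearMap.BilinForm (ZMod 2) V) (halt : ∀ v, B v v = 0) (v w : V) : B v w = B w v := by
  have h1 := halt (v + w)
  simp only [map_add, LinearMap.add_apply, halt, zero_add, add_zero] at h1
  have h2 : B v w + B v w = 0 := H216.Rad3.SpSix.two_eq _
  have h3 : B w v + B v w = 0 := h1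
  exact (add_right_cancel (h3.trans h2.symm)).symm

theorem add_self (v : V) : v + v = 0 := H216.Rad3.SpSix.two_eq v

/-- a plane on which `T` acts as a transvection -/
theorem step_v (B : LinearMap.BilinForm (ZMod 2) V) (halt : ∀ v, B v v = 0) (T : V →ₗ[ZMod 2] V)
    (hT2 : ∀ v, T (T v) = v) {W : Submodule (ZMod 2) V}
    (hTW : ∀ w ∈ W, T w ∈ W) (h : ∃ v ∈ W, B v (T v) ≠ 0) :
    ∃ e ∈ W, ∃ f ∈ W, B e f = 1 ∧ T e = e + f ∧ T f = f := by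
  obtain ⟨v, hv, h1⟩ := h
  refine ⟨v, hv, v + T v, W.add_mem hv (hTW _ hv), ?_, ?_, ?_⟩
  · rw [map_add, halt, zero_add]
    exact (H216.Rad3.SpSix.zmod_two _).resolve_left h1
  · rw [← add_assoc, add_self, zero_add]
  · rw [map_add, hT2, add_comm]

/-- a hyperbolic plane of fixed vectors -/
theorem step_i (B : LinearMap.BilinForm (ZMod 2) V) {W : Submodule (ZMod 2) V}
    (hnd : ∀ w ∈ W, (∀ u ∈ W, B w u = 0) → w = 0) (h : ∃ w ∈ W, w ≠ 0) :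
    ∃ e ∈ W, ∃ f ∈ W, B e f = 1 := by
  obtain ⟨e, he, he0⟩ := h
  by_contra hcon
  push Not at hcon
  exact he0 (hnd e he fun u hu => (H216.Rad3.SpSix.zmod_two _).resolve_right (hcon e he u hu))

/-- a four-space on which `T` acts with alternating form `B v (T w)` -/
theorem step_w (B : LinearMap.BilinForm (ZMod 2) V) (halt : ∀ v, B v v = 0) (T : V →ₗ[ZMod 2] V)
    (hT : ∀ v w, B (T v) (T w) = B v w) (hT2 : ∀ v, T (T v) = v) {W : Submodule (ZMod 2) V}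
    (hTW : ∀ w ∈ W, T w ∈ W) (hnd : ∀ w ∈ W, (∀ u ∈ W, B w u = 0) → w = 0)
    (h0 : ∀ v ∈ W, B v (T v) = 0) (h : ∃ w ∈ W, T w ≠ w) :
    ∃ e ∈ W, ∃ f ∈ W, ∃ e' ∈ W, ∃ f' ∈ W, B e f = 1 ∧ B e' f' = 1 ∧ B e' e = 0 ∧ B e' f = 0 ∧ B f' e = 0 ∧ B f' f = 0 ∧
      T e = e + f' ∧ T f = f ∧ T e' = e' + f ∧ T f' = f' := by
  have hsymm := symm_of B halt
  obtain ⟨w, hw, hw1⟩ := h
  obtain ⟨v, hv, h1⟩ : ∃ v ∈ W, B (w + T w) v ≠ 0 := by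
    by_contra hcon
    push Not at hcon
    apply hw1
    have h2 := hnd _ (W.add_mem hw (hTW w hw)) hcon
    exact add_left_cancel (h2.trans (add_self w).symm)
  have h2 : B (w + T w) v = 1 := (H216.Rad3.SpSix.zmod_two _).resolve_left h1
  -- `N v = v + T v`
  have hN : ∀ u, T (u + T u) = u + T u := by
    intro u
    rw [map_add, hT2, add_comm]
  have hBN : ∀ u u', B u (u' + T u') = B (u + T u) u' := by
    intro u u'
    have h3 : B u (T u') = B (T u) u' := by rw [← hT u (T u'), hT2]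
    rw [map_add, map_add, LinearMap.add_apply, h3]
  have hNN : ∀ u u', B (u + T u) (u' + T u') = 0 := by
    intro u u'
    rw [hBN, hN, add_self, map_zero, LinearMap.zero_apply]
  have hN0 : ∀ u ∈ W, B u (u + T u) = 0 := by
    intro u hu
    rw [map_add, halt, h0 u hu, add_zero]
  -- `w' = w + c (w + T w)` orthogonal to `v`
  set c := B v w with hc
  set N := w + T w with hNdef
  have hNW : N ∈ W := W.add_mem hw (hTW w hw)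
  have hTN : T N = N := hN w
  set w' := w + c • N with hw'
  have hw'W : w' ∈ W := W.add_mem hw (W.smul_mem _ hNW)
  have hTw' : T w' = w' + N := by
    rw [hw', map_add, map_smul, hTN, hNdef]
    calc T w + c • (w + T w) = (w + w) + (T w + c • (w + T w)) := by rw [add_self, zero_add]
      _ = w + c • (w + T w) + (w + T w) := by abel
  have hvN : B v N = 1 := by rw [hsymm, h2]
  refine ⟨v, hv, N, hNW, w', hw'W, v + T v, W.add_mem hv (hTW v hv), hvN, ?_, ?_, ?_, ?_, ?_, ?_, hTN, hTw', hN v⟩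
  · rw [hBN, hTw', ← add_assoc, add_self, zero_add, h2]
  · rw [hsymm, hw', map_add, map_smul, hvN, smul_eq_mul, mul_one]
    exact add_self c
  · rw [hsymm, hw', map_add, map_smul, halt, smul_zero, add_zero, hsymm]
    exact hN0 w hw
  · rw [hsymm, hN0 v hv]
  · exact hNN v w
  · rw [← add_assoc, add_self, zero_add]

end abs

/-! ### matrices -/

/-- the involutions -/
def bF : Fin 6 → Fin 6 → Fin 6 → ZMod 2
  | 0 => ![![1, 0, 0, 0, 0, 0], ![0, 1, 0, 0, 0, 0], ![0, 0, 1, 0, 0, 0], ![0, 0, 0, 1, 0, 0], ![0, 0, 0, 0, 1, 0], ![0, 0, 0, 0, 0, 1]]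
  | 1 => ![![1, 0, 0, 0, 0, 0], ![0, 1, 0, 0, 0, 0], ![0, 0, 1, 0, 0, 0], ![1, 0, 0, 1, 0, 0], ![0, 0, 0, 0, 1, 0], ![0, 0, 0, 0, 0, 1]]
  | 2 => ![![1, 0, 0, 0, 0, 0], ![0, 1, 0, 0, 0, 0], ![0, 0, 1, 0, 0, 0], ![1, 0, 0, 1, 0, 0], ![0, 1, 0, 0, 1, 0], ![0, 0, 0, 0, 0, 1]]
  | 3 => ![![1, 0, 0, 0, 0, 0], ![0, 1, 0, 0, 0, 0], ![0, 0, 1, 0, 0, 0], ![1, 0, 0, 1, 0, 0], ![0, 1, 0, 0, 1, 0], ![0, 0, 1, 0, 0, 1]]
  | 4 => ![![1, 0, 0, 0, 0, 0], ![0, 1, 0, 0, 0, 0], ![0, 0, 1, 0, 0, 0], ![0, 1, 0, 1, 0, 0], ![1, 0, 0, 0, 1, 0], ![0, 0, 0, 0, 0, 1]]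
  | 5 => ![![1, 0, 0, 0, 0, 0], ![0, 1, 0, 0, 0, 0], ![0, 0, 1, 0, 0, 0], ![1, 0, 0, 1, 0, 0], ![0, 0, 1, 0, 1, 0], ![0, 1, 0, 0, 0, 1]]

/-- first conjugator -/
def gF : Fin 6 → Fin 6 → Fin 6 → ZMod 2
  | 0 => 1
  | 1 => 1
  | 2 => ![![0, 0, 0, 0, 1, 1], ![0, 0, 0, 1, 1, 0], ![1, 1, 1, 1, 0, 0], ![1, 1, 0, 0, 0, 1], ![1, 0, 0, 1, 1, 1], ![1, 1, 1, 1, 0, 1]]
  | 3 => ![![1, 1, 1, 0, 0, 1], ![0, 1, 0, 0, 1, 1], ![1, 1, 0, 1, 1, 0], ![1, 1, 0, 1, 1, 1], ![1, 1, 0, 0, 0, 0], ![1, 0, 1, 1, 1, 1]]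
  | 4 => ![![0, 1, 1, 1, 0, 0], ![0, 1, 1, 0, 1, 1], ![0, 0, 0, 0, 1, 1], ![1, 1, 1, 1, 0, 0], ![1, 0, 0, 0, 1, 0], ![1, 0, 1, 0, 1, 0]]
  | 5 => ![![1, 0, 1, 1, 1, 1], ![1, 0, 0, 0, 0, 1], ![1, 1, 1, 1, 1, 0], ![1, 1, 0, 0, 1, 1], ![0, 0, 1, 0, 1, 1], ![0, 1, 0, 0, 1, 1]]

/-- second conjugator -/
def hF : Fin 6 → Fin 6 → Fin 6 → ZMod 2
  | 0 => 1
  | 1 => 1
  | 2 => ![![0, 0, 0, 1, 1, 0], ![1, 1, 0, 1, 1, 0], ![0, 0, 1, 0, 0, 0], ![1, 0, 0, 0, 1, 0], ![0, 0, 0, 0, 1, 0], ![0, 0, 0, 0, 0, 1]]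
  | 3 => ![![1, 0, 0, 1, 0, 0], ![1, 0, 0, 1, 0, 1], ![0, 1, 0, 0, 1, 0], ![0, 0, 1, 1, 0, 1], ![0, 1, 1, 0, 1, 1], ![1, 0, 0, 1, 1, 1]]
  | 4 => ![![0, 1, 1, 1, 0, 1], ![1, 1, 0, 1, 0, 1], ![0, 1, 0, 0, 0, 0], ![1, 1, 1, 0, 0, 1], ![0, 1, 1, 0, 0, 1], ![0, 1, 1, 0, 1, 0]]
  | 5 => ![![0, 0, 0, 1, 1, 1], ![1, 0, 1, 1, 1, 0], ![0, 1, 1, 1, 1, 0], ![1, 0, 0, 1, 1, 0], ![1, 1, 0, 0, 1, 1], ![1, 1, 0, 0, 1, 0]]

/-- first conjugate -/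
def uF : Fin 6 → Fin 6 → Fin 6 → ZMod 2
  | 0 => 1
  | 1 => 1
  | 2 => ![![1, 1, 0, 1, 1, 0], ![0, 1, 1, 1, 0, 1], ![0, 1, 0, 0, 1, 1], ![0, 0, 0, 1, 0, 0], ![0, 0, 1, 1, 1, 1], ![0, 1, 1, 0, 1, 0]]
  | 3 => ![![0, 0, 1, 1, 1, 0], ![0, 1, 0, 1, 0, 1], ![0, 0, 1, 0, 1, 0], ![1, 0, 1, 0, 0, 0], ![0, 0, 0, 0, 1, 0], ![1, 0, 1, 1, 0, 1]]
  | 4 => ![![1, 1, 1, 0, 1, 1], ![1, 1, 0, 1, 0, 0], ![1, 0, 1, 1, 0, 0], ![0, 1, 1, 1, 1, 1], ![1, 0, 0, 1, 1, 0], ![1, 0, 0, 1, 0, 1]]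
  | 5 => ![![1, 0, 0, 1, 1, 0], ![1, 0, 1, 1, 0, 1], ![1, 1, 0, 0, 1, 1], ![0, 0, 0, 1, 1, 1], ![0, 0, 0, 0, 0, 1], ![0, 0, 0, 0, 1, 0]]

/-- second conjugate -/
def vF : Fin 6 → Fin 6 → Fin 6 → ZMod 2
  | 0 => 1
  | 1 => 1
  | 2 => ![![0, 1, 0, 0, 0, 0], ![1, 0, 0, 0, 0, 0], ![0, 0, 1, 0, 0, 0], ![1, 1, 0, 0, 1, 0], ![1, 1, 0, 1, 0, 0], ![0, 0, 0, 0, 0, 1]]
  | 3 => ![![0, 0, 1, 1, 1, 0], ![0, 0, 0, 1, 0, 0], ![0, 1, 0, 0, 0, 1], ![0, 1, 0, 0, 0, 0], ![1, 0, 0, 0, 0, 1], ![0, 0, 1, 1, 0, 0]]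
  | 4 => ![![1, 0, 1, 0, 0, 0], ![0, 1, 1, 0, 0, 0], ![0, 0, 1, 0, 0, 0], ![0, 0, 0, 1, 0, 0], ![0, 0, 0, 0, 1, 0], ![0, 0, 0, 1, 1, 1]]
  | 5 => ![![1, 0, 1, 1, 0, 0], ![1, 0, 0, 0, 1, 1], ![1, 1, 1, 0, 1, 1], ![1, 1, 0, 1, 1, 1], ![1, 0, 1, 0, 0, 1], ![0, 1, 0, 1, 0, 1]]

/-- conjugators of the transvection -/
def pF : Fin 4 → Fin 6 → Fin 6 → ZMod 2
  | 0 => ![![1, 0, 0, 0, 0, 0], ![0, 1, 0, 0, 0, 0], ![0, 0, 1, 0, 0, 0], ![0, 0, 0, 1, 0, 0], ![0, 0, 0, 0, 1, 0], ![0, 0, 0, 0, 0, 1]]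
  | 1 => ![![0, 1, 1, 1, 0, 1], ![0, 0, 1, 0, 0, 1], ![0, 1, 1, 0, 0, 1], ![1, 0, 0, 0, 0, 0], ![0, 0, 0, 0, 1, 1], ![1, 1, 1, 0, 1, 1]]
  | 2 => ![![0, 0, 1, 0, 1, 1], ![1, 0, 1, 0, 1, 1], ![0, 0, 0, 0, 1, 0], ![0, 0, 1, 1, 0, 0], ![0, 0, 0, 1, 0, 0], ![0, 1, 1, 0, 0, 0]]
  | 3 => ![![0, 0, 1, 0, 1, 1], ![0, 1, 1, 1, 1, 0], ![0, 1, 1, 0, 1, 0], ![0, 0, 1, 0, 0, 0], ![1, 0, 0, 0, 0, 0], ![1, 1, 1, 0, 0, 0]]

/-- the four transvections -/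
def qF : Fin 4 → Fin 6 → Fin 6 → ZMod 2
  | 0 => ![![1, 0, 0, 0, 0, 0], ![0, 1, 0, 0, 0, 0], ![0, 0, 1, 0, 0, 0], ![1, 0, 0, 1, 0, 0], ![0, 0, 0, 0, 1, 0], ![0, 0, 0, 0, 0, 1]]
  | 1 => ![![1, 0, 0, 1, 0, 0], ![0, 1, 0, 0, 0, 0], ![0, 0, 1, 0, 0, 0], ![0, 0, 0, 1, 0, 0], ![0, 0, 0, 0, 1, 0], ![0, 0, 0, 0, 0, 1]]
  | 2 => ![![1, 0, 0, 0, 0, 0], ![0, 1, 0, 0, 0, 0], ![0, 0, 1, 0, 0, 0], ![1, 1, 0, 1, 0, 0], ![1, 1, 0, 0, 1, 0], ![0, 0, 0, 0, 0, 1]]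
  | 3 => ![![1, 0, 0, 0, 0, 0], ![0, 1, 0, 0, 1, 0], ![0, 0, 1, 0, 0, 0], ![0, 0, 0, 1, 0, 0], ![0, 0, 0, 0, 1, 0], ![0, 0, 0, 0, 0, 1]]

/-- the matrix with entries `F` -/
def mk (F : Fin 6 → Fin 6 → ZMod 2) : Matrix (Fin 3 ⊕ Fin 3) (Fin 3 ⊕ Fin 3) (ZMod 2) :=
  fun i j => F (ix i) (ix j)

/-- the five involutions (and the identity) -/
def bm (κ : Fin 6) : Matrix (Fin 3 ⊕ Fin 3) (Fin 3 ⊕ Fin 3) (ZMod 2) := mk (bF κ)

theorem bm_zero : bm 0 = 1 := by decide +kernel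

/-- orders -/
def oF : Fin 6 → ℕ × ℕ × ℕ
  | 0 => (1, 1, 1)
  | 1 => (1, 1, 1)
  | 2 => (5, 5, 3)
  | 3 => (7, 3, 3)
  | 4 => (3, 3, 7)
  | 5 => (5, 3, 7)

theorem check : ∀ κ : Fin 6, 2 ≤ κ →
    (bm κ * J (Fin 3) (ZMod 2) * (bm κ)ᵀ = J (Fin 3) (ZMod 2) ∧ bm κ * bm κ = 1 ∧ bm κ ≠ 1) ∧
    (mk (gF κ) * J (Fin 3) (ZMod 2) * (mk (gF κ))ᵀ = J (Fin 3) (ZMod 2) ∧
      mk (hF κ) * J (Fin 3) (ZMod 2) * (mk (hF κ))ᵀ = J (Fin 3) (ZMod 2) ∧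
      mk (uF κ) * J (Fin 3) (ZMod 2) * (mk (uF κ))ᵀ = J (Fin 3) (ZMod 2) ∧
      mk (vF κ) * J (Fin 3) (ZMod 2) * (mk (vF κ))ᵀ = J (Fin 3) (ZMod 2)) ∧
    (mk (gF κ) * bm κ = mk (uF κ) * mk (gF κ) ∧ mk (hF κ) * bm κ = mk (vF κ) * mk (hF κ)) ∧
    ((bm κ * mk (uF κ)) ^ (oF κ).1 = 1 ∧ (mk (uF κ) * mk (vF κ)) ^ (oF κ).2.1 = 1 ∧
      (bm κ * mk (uF κ) * mk (vF κ)) ^ (oF κ).2.2 = 1) ∧
    (Odd (oF κ).1 ∧ Odd (oF κ).2.1 ∧ Odd (oF κ).2.2) := by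
  decide +kernel

/-- the element of order three -/
def wv : Matrix (Fin 3 ⊕ Fin 3) (Fin 3 ⊕ Fin 3) (ZMod 2) := mk (qF 1) * mk (qF 2) * mk (qF 1) * mk (qF 3)

/-- the element of order two -/
def wu : Matrix (Fin 3 ⊕ Fin 3) (Fin 3 ⊕ Fin 3) (ZMod 2) := mk (qF 0) * mk (qF 2)

theorem check_one : (bm 1 * J (Fin 3) (ZMod 2) * (bm 1)ᵀ = J (Fin 3) (ZMod 2)) ∧
    (∀ i : Fin 4, mk (pF i) * J (Fin 3) (ZMod 2) * (mk (pF i))ᵀ = J (Fin 3) (ZMod 2) ∧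
      mk (qF i) * J (Fin 3) (ZMod 2) * (mk (qF i))ᵀ = J (Fin 3) (ZMod 2) ∧
      mk (pF i) * bm 1 = mk (qF i) * mk (pF i)) ∧
    wv ^ 3 = 1 ∧ wu ^ 2 = 1 ∧ (wv * wu) ^ 5 = 1 ∧ wv * wu ≠ 1 := by
  decide +kernel

/-- the columns of the symplectic basis -/
theorem exists_basis {a : Matrix (Fin 3 ⊕ Fin 3) (Fin 3 ⊕ Fin 3) (ZMod 2)}
    (ha : aᵀ * J (Fin 3) (ZMod 2) * a = J (Fin 3) (ZMod 2)) (ha2 : a * a = 1) :
    ∃ (c : Fin 3 ⊕ Fin 3 → (Fin 3 ⊕ Fin 3 → ZMod 2)) (κ : Fin 6),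
      (∀ i j, c i ⬝ᵥ (J (Fin 3) (ZMod 2)) *ᵥ c j = J (Fin 3) (ZMod 2) i j) ∧
      ∀ j, a *ᵥ c j = ∑ k, bm κ k j • c k := by
  obtain ⟨Bf, Bf_apply⟩ := exists_form
  have halt : ∀ v, Bf v v = 0 := fun v => by rw [Bf_apply]; exact halt0 v
  let T := Matrix.mulVecLin a
  have hTa : ∀ v, T v = a *ᵥ v := fun v => rfl
  have hT : ∀ v w, Bf (T v) (T w) = Bf v w := by
    intro v w
    rw [hTa, hTa, Bf_apply, Bf_apply, Matrix.mulVec_mulVec, ← Matrix.vecMul_transpose, ← Matrix.dotProduct_mulVec,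
      Matrix.mulVec_mulVec, ← Matrix.mul_assoc, ha]
  have hT2 : ∀ v, T (T v) = v := by
    intro v
    rw [hTa, hTa, Matrix.mulVec_mulVec, ha2, Matrix.one_mulVec]
  have hsymm : ∀ v w, Bf v w = Bf w v := symm_of Bf halt
  have hnd : ∀ w ∈ (⊤ : Submodule (ZMod 2) (Fin 3 ⊕ Fin 3 → ZMod 2)), (∀ u ∈ (⊤ : Submodule (ZMod 2) _), Bf w u = 0) →
      w = 0 := by
    intro w _ h
    refine hnd0 w fun j => ?_
    rw [← Bf_apply]
    exact h _ trivial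
  have hcard : Fintype.card (Fin 3 ⊕ Fin 3 → ZMod 2) = 64 := by simp
  have hadj : ∀ v w, Bf (T v) w = Bf v (T w) := fun v w => by rw [← hT v (T w), hT2]
  -- the final assembly
  have fin : ∀ (κ : Fin 6) (e1 f1 e2 f2 e3 f3 : Fin 3 ⊕ Fin 3 → ZMod 2),
      Bf e1 f1 = 1 → Bf e2 f2 = 1 → Bf e3 f3 = 1 →
      (Bf e2 e1 = 0 ∧ Bf e2 f1 = 0 ∧ Bf f2 e1 = 0 ∧ Bf f2 f1 = 0) →
      (Bf e3 e1 = 0 ∧ Bf e3 f1 = 0 ∧ Bf f3 e1 = 0 ∧ Bf f3 f1 = 0) →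
      (Bf e3 e2 = 0 ∧ Bf e3 f2 = 0 ∧ Bf f3 e2 = 0 ∧ Bf f3 f2 = 0) →
      (∀ i, T (![e1, e2, e3] i) = ∑ k : Fin 3, bm κ (Sum.inl k) (Sum.inl i) • ![e1, e2, e3] k +
        ∑ k : Fin 3, bm κ (Sum.inr k) (Sum.inl i) • ![f1, f2, f3] k) →
      (∀ i, T (![f1, f2, f3] i) = ∑ k : Fin 3, bm κ (Sum.inl k) (Sum.inr i) • ![e1, e2, e3] k +
        ∑ k : Fin 3, bm κ (Sum.inr k) (Sum.inr i) • ![f1, f2, f3] k) →
      ∃ (c : Fin 3 ⊕ Fin 3 → (Fin 3 ⊕ Fin 3 → ZMod 2)) (κ : Fin 6),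
        (∀ i j, c i ⬝ᵥ (J (Fin 3) (ZMod 2)) *ᵥ c j = J (Fin 3) (ZMod 2) i j) ∧
        ∀ j, a *ᵥ c j = ∑ k, bm κ k j • c k := by
    intro κ e1 f1 e2 f2 e3 f3 hb1 hb2 hb3 h21 h31 h32 hTe hTf
    refine ⟨Sum.elim ![e1, e2, e3] ![f1, f2, f3], κ, ?_, ?_⟩
    · have hd : ∀ i : Fin 3, Bf (![e1, e2, e3] i) (![f1, f2, f3] i) = 1 := by
        intro i
        fin_cases i
        · exact hb1
        · exact hb2
        · exact hb3
      have hlt : ∀ i j : Fin 3, i < j → Bf (![e1, e2, e3] j) (![e1, e2, e3] i) = 0 ∧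
          Bf (![e1, e2, e3] j) (![f1, f2, f3] i) = 0 ∧ Bf (![f1, f2, f3] j) (![e1, e2, e3] i) = 0 ∧
          Bf (![f1, f2, f3] j) (![f1, f2, f3] i) = 0 := by
        intro i j hij
        fin_cases i <;> fin_cases j <;> first
          | exact absurd hij (by decide)
          | exact h21
          | exact h31
          | exact h32
      intro i j
      rw [← Bf_apply]
      exact basis_of halt hsymm hd hlt i j
    · intro j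
      rw [Fintype.sum_sum_type]
      rcases j with j | j
      · exact hTe j
      · exact hTf j
  have idc : ∀ e f : Fin 3 ⊕ Fin 3 → ZMod 2, ∀ w, Bf w e = 0 → Bf w f = 0 →
      Bf ((LinearMap.id : (Fin 3 ⊕ Fin 3 → ZMod 2) →ₗ[ZMod 2] _) w) e = 0 ∧
      Bf ((LinearMap.id : (Fin 3 ⊕ Fin 3 → ZMod 2) →ₗ[ZMod 2] _) w) f = 0 := fun e f w h1 h2 => ⟨h1, h2⟩
  have split1 : ∀ e1 f1, Bf e1 f1 = 1 → ∃ W1 : Submodule (ZMod 2) (Fin 3 ⊕ Fin 3 → ZMod 2),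
      (∀ w, w ∈ W1 ↔ Bf w e1 = 0 ∧ Bf w f1 = 0) ∧ (∀ w ∈ W1, (∀ u ∈ W1, Bf w u = 0) → w = 0) ∧
      (∃ w ∈ W1, w ≠ 0) ∧ ∀ u, ∃ a b : ZMod 2, ∃ w' ∈ W1, u = w' + a • e1 + b • f1 := by
    intro e1 f1 hb1
    obtain ⟨W1, hW1, -, hnd1, hdec1⟩ := exists_next Bf halt LinearMap.id ⊤ (fun _ _ => trivial) hnd
      (e := e1) (f := f1) trivial trivial hb1 (idc e1 f1)
    refine ⟨W1, fun w => (hW1 w).trans ⟨fun h => h.2, fun h => ⟨trivial, h⟩⟩, hnd1, ?_, fun u => hdec1 u trivial⟩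
    by_contra hcon
    push Not at hcon
    have hs : Function.Surjective (fun q : ZMod 2 × ZMod 2 => q.1 • e1 + q.2 • f1) := by
      intro u
      obtain ⟨a, b, w', hw', h⟩ := hdec1 u trivial
      refine ⟨(a, b), ?_⟩
      rw [h, hcon w' hw', zero_add]
    have := Fintype.card_le_of_surjective _ hs
    rw [hcard] at this
    simp at this
  have split2 : ∀ e1 f1 e2 f2, Bf e1 f1 = 1 → Bf e2 f2 = 1 → (Bf e2 e1 = 0 ∧ Bf e2 f1 = 0 ∧ Bf f2 e1 = 0 ∧ Bf f2 f1 = 0) →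
      ∃ W2 : Submodule (ZMod 2) (Fin 3 ⊕ Fin 3 → ZMod 2),
      (∀ w, w ∈ W2 ↔ (Bf w e1 = 0 ∧ Bf w f1 = 0) ∧ Bf w e2 = 0 ∧ Bf w f2 = 0) ∧
      (∀ w ∈ W2, (∀ u ∈ W2, Bf w u = 0) → w = 0) ∧ (∃ w ∈ W2, w ≠ 0) ∧
      ∀ e3 ∈ W2, ∀ f3 ∈ W2, Bf e3 f3 = 1 → ∀ w ∈ W2, w = Bf w f3 • e3 + Bf w e3 • f3 := by
    intro e1 f1 e2 f2 hb1 hb2 h21
    obtain ⟨W1, hW1, hnd1, -, hdec1⟩ := split1 e1 f1 hb1
    obtain ⟨W2, hW2, -, hnd2, hdec2⟩ := exists_next Bf halt LinearMap.id W1 (fun _ h => h) hnd1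
      (e := e2) (f := f2) ((hW1 _).2 ⟨h21.1, h21.2.1⟩) ((hW1 _).2 ⟨h21.2.2.1, h21.2.2.2⟩) hb2 (idc e2 f2)
    refine ⟨W2, fun w => by rw [hW2, hW1], hnd2, ?_, ?_⟩
    · by_contra hcon
      push Not at hcon
      have hs : Function.Surjective (fun q : (ZMod 2 × ZMod 2) × (ZMod 2 × ZMod 2) =>
          (q.2.1 • e2 + q.2.2 • f2) + q.1.1 • e1 + q.1.2 • f1) := by
        intro u
        obtain ⟨a, b, w', hw', h⟩ := hdec1 u
        obtain ⟨c, d, w'', hw'', h'⟩ := hdec2 w' hw'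
        refine ⟨((a, b), (c, d)), ?_⟩
        rw [h, h', hcon w'' hw'', zero_add]
      have := Fintype.card_le_of_surjective _ hs
      rw [hcard] at this
      simp at this
    · intro e3 he3 f3 hf3 hb3 w hw
      have a3 := (hW2 e3).1 he3
      have b3 := (hW2 f3).1 hf3
      have a3' := (hW1 e3).1 a3.1
      have b3' := (hW1 f3).1 b3.1
      set z := w - Bf w f3 • e3 - Bf w e3 • f3 with hz
      have hzW : z ∈ W2 := W2.sub_mem (W2.sub_mem hw (W2.smul_mem _ he3)) (W2.smul_mem _ hf3)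
      have z1 := (hW2 z).1 hzW
      have z2 := (hW1 z).1 z1.1
      have z3 : Bf z e3 = 0 := by
        simp only [hz, map_sub, map_smul, LinearMap.sub_apply, LinearMap.smul_apply, halt, hsymm f3 e3, hb3,
          smul_eq_mul, mul_one, mul_zero, sub_zero, sub_self]
      have z4 : Bf z f3 = 0 := by
        simp only [hz, map_sub, map_smul, LinearMap.sub_apply, LinearMap.smul_apply, halt, hb3, smul_eq_mul, mul_one,
          mul_zero, sub_self]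
      have hd : ∀ i : Fin 3, Bf (![e1, e2, e3] i) (![f1, f2, f3] i) = 1 := by
        intro i
        fin_cases i
        · exact hb1
        · exact hb2
        · exact hb3
      have hlt : ∀ i j : Fin 3, i < j → Bf (![e1, e2, e3] j) (![e1, e2, e3] i) = 0 ∧
          Bf (![e1, e2, e3] j) (![f1, f2, f3] i) = 0 ∧ Bf (![f1, f2, f3] j) (![e1, e2, e3] i) = 0 ∧
          Bf (![f1, f2, f3] j) (![f1, f2, f3] i) = 0 := by
        intro i j hij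
        fin_cases i <;> fin_cases j <;> first
          | exact absurd hij (by decide)
          | exact h21
          | exact ⟨a3'.1, a3'.2, b3'.1, b3'.2⟩
          | exact ⟨a3.2.1, a3.2.2, b3.2.1, b3.2.2⟩
      set c : Fin 3 ⊕ Fin 3 → (Fin 3 ⊕ Fin 3 → ZMod 2) := Sum.elim ![e1, e2, e3] ![f1, f2, f3] with hc
      have hgram : ∀ i j, Bf (c i) (c j) = J (Fin 3) (ZMod 2) i j := basis_of halt hsymm hd hlt
      let g : Matrix (Fin 3 ⊕ Fin 3) (Fin 3 ⊕ Fin 3) (ZMod 2) := fun i j => c j i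
      have hg : g ∈ symplecticGroup (Fin 3) (ZMod 2) := by
        rw [SymplecticGroup.mem_iff']
        ext i j
        rw [Matrix.mul_mul_apply, ← hgram i j, Bf_apply]
        rfl
      have hgi : g * ((⟨g, hg⟩ : X)⁻¹ : X) = 1 := congrArg Subtype.val (mul_inv_cancel (⟨g, hg⟩ : X))
      have hz0 : z = 0 := by
        refine hnd0 z fun j => ?_
        rw [← Bf_apply]
        obtain ⟨y, hy⟩ : ∃ y, (Pi.single j 1 : Fin 3 ⊕ Fin 3 → ZMod 2) = g *ᵥ y :=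
          ⟨(((⟨g, hg⟩ : X)⁻¹ : X) : Matrix (Fin 3 ⊕ Fin 3) (Fin 3 ⊕ Fin 3) (ZMod 2)) *ᵥ Pi.single j 1, by
            rw [Matrix.mulVec_mulVec, hgi, Matrix.one_mulVec]⟩
        have hsum : g *ᵥ y = ∑ k, y k • c k := by
          ext i
          simp only [Matrix.mulVec, dotProduct, Finset.sum_apply, Pi.smul_apply, smul_eq_mul, g]
          exact Finset.sum_congr rfl fun k _ => mul_comm _ _
        rw [hy, hsum, map_sum]
        refine Finset.sum_eq_zero fun k _ => ?_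
        rw [map_smul]
        have : Bf z (c k) = 0 := by
          rcases k with k | k <;> fin_cases k
          · exact z2.1
          · exact z1.2.1
          · exact z3
          · exact z2.2
          · exact z1.2.2
          · exact z4
        rw [this, smul_zero]
      have := sub_eq_zero.1 (hz ▸ hz0 : w - Bf w f3 • e3 - Bf w e3 • f3 = 0)
      rw [sub_eq_iff_eq_add, add_comm] at this
      exact this
  -- on a plane without non-isotropic vectors `T` is trivial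
  have plane : ∀ W2 : Submodule (ZMod 2) (Fin 3 ⊕ Fin 3 → ZMod 2), (∀ w ∈ W2, T w ∈ W2) →
      (∀ v ∈ W2, Bf v (T v) = 0) → (∀ e3 ∈ W2, ∀ f3 ∈ W2, Bf e3 f3 = 1 → ∀ w ∈ W2, w = Bf w f3 • e3 + Bf w e3 • f3) →
      ∀ e3 ∈ W2, ∀ f3 ∈ W2, Bf e3 f3 = 1 → T e3 = e3 := by
    intro W2 hTW h0 hsp e3 he3 f3 hf3 hb
    have h1 := hsp e3 he3 f3 hf3 hb (T e3) (hTW _ he3)
    rw [hsymm (T e3) e3, h0 e3 he3, zero_smul, add_zero] at h1
    rcases H216.Rad3.SpSix.zmod_two (Bf (T e3) f3) with h2 | h2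
    · exfalso
      rw [h2, zero_smul] at h1
      have h3 : e3 = 0 := by rw [← hT2 e3, h1, map_zero]
      rw [h3, map_zero, LinearMap.zero_apply] at hb
      exact zero_ne_one hb
    · rwa [h2, one_smul] at h1
  by_cases h1 : ∃ v ∈ (⊤ : Submodule (ZMod 2) (Fin 3 ⊕ Fin 3 → ZMod 2)), Bf v (T v) ≠ 0
  · obtain ⟨e1, -, f1, -, hb1, hTe1, hTf1⟩ := step_v Bf halt T hT2 (W := ⊤) (fun _ _ => trivial) h1
    obtain ⟨W1, hW1, hnd1, hne1, -⟩ := split1 e1 f1 hb1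
    have hTW1 : ∀ w ∈ W1, T w ∈ W1 := by
      intro w hw
      obtain ⟨w1, w2⟩ := (hW1 w).1 hw
      rw [hW1, hadj, hadj, hTe1, hTf1, map_add, w1, w2]
      exact ⟨add_zero 0, rfl⟩
    by_cases h2 : ∃ v ∈ W1, Bf v (T v) ≠ 0
    · obtain ⟨e2, he2, f2, hf2, hb2, hTe2, hTf2⟩ := step_v Bf halt T hT2 hTW1 h2
      have a2 := (hW1 e2).1 he2
      have b2 := (hW1 f2).1 hf2
      obtain ⟨W2, hW2, hnd2, hne2, hsp2⟩ := split2 e1 f1 e2 f2 hb1 hb2 ⟨a2.1, a2.2, b2.1, b2.2⟩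
      have hTW2 : ∀ w ∈ W2, T w ∈ W2 := by
        intro w hw
        obtain ⟨⟨w1, w2⟩, w3, w4⟩ := (hW2 w).1 hw
        rw [hW2, hadj, hadj, hadj, hadj, hTe1, hTf1, hTe2, hTf2, map_add, map_add, w1, w2, w3, w4]
        exact ⟨⟨add_zero 0, rfl⟩, add_zero 0, rfl⟩
      by_cases h3 : ∃ v ∈ W2, Bf v (T v) ≠ 0
      · obtain ⟨e3, he3, f3, hf3, hb3, hTe3, hTf3⟩ := step_v Bf halt T hT2 hTW2 h3
        have a3 := (hW2 e3).1 he3
        have b3 := (hW2 f3).1 hf3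
        refine fin 3 e1 f1 e2 f2 e3 f3 hb1 hb2 hb3 ⟨a2.1, a2.2, b2.1, b2.2⟩ ⟨a3.1.1, a3.1.2, b3.1.1, b3.1.2⟩
          ⟨a3.2.1, a3.2.2, b3.2.1, b3.2.2⟩ ?_ ?_
        · intro i
          fin_cases i
          · simp [bm, mk, bF, ix, hTe1, Fin.sum_univ_three]
          · simp [bm, mk, bF, ix, hTe2, Fin.sum_univ_three]
          · simp [bm, mk, bF, ix, hTe3, Fin.sum_univ_three]
        · intro i
          fin_cases i
          · simp [bm, mk, bF, ix, hTf1, Fin.sum_univ_three]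
          · simp [bm, mk, bF, ix, hTf2, Fin.sum_univ_three]
          · simp [bm, mk, bF, ix, hTf3, Fin.sum_univ_three]
      · push Not at h3
        obtain ⟨e3, he3, f3, hf3, hb3⟩ := step_i Bf hnd2 hne2
        have a3 := (hW2 e3).1 he3
        have b3 := (hW2 f3).1 hf3
        have hTe3 := plane W2 hTW2 h3 hsp2 e3 he3 f3 hf3 hb3
        have hTf3 := plane W2 hTW2 h3 hsp2 f3 hf3 e3 he3 (by rw [hsymm, hb3])
        refine fin 2 e1 f1 e2 f2 e3 f3 hb1 hb2 hb3 ⟨a2.1, a2.2, b2.1, b2.2⟩ ⟨a3.1.1, a3.1.2, b3.1.1, b3.1.2⟩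
          ⟨a3.2.1, a3.2.2, b3.2.1, b3.2.2⟩ ?_ ?_
        · intro i
          fin_cases i
          · simp [bm, mk, bF, ix, hTe1, Fin.sum_univ_three]
          · simp [bm, mk, bF, ix, hTe2, Fin.sum_univ_three]
          · simp [bm, mk, bF, ix, hTe3, Fin.sum_univ_three]
        · intro i
          fin_cases i
          · simp [bm, mk, bF, ix, hTf1, Fin.sum_univ_three]
          · simp [bm, mk, bF, ix, hTf2, Fin.sum_univ_three]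
          · simp [bm, mk, bF, ix, hTf3, Fin.sum_univ_three]
    · push Not at h2
      by_cases h3 : ∃ w ∈ W1, T w ≠ w
      · obtain ⟨e2, he2, f2, hf2, e3, he3, f3, hf3, hb2, hb3, h32a, h32b, h32c, h32d, hTe2, hTf2, hTe3, hTf3⟩ :=
          step_w Bf halt T hT hT2 hTW1 hnd1 h2 h3
        have a2 := (hW1 e2).1 he2
        have b2 := (hW1 f2).1 hf2
        have a3 := (hW1 e3).1 he3
        have b3 := (hW1 f3).1 hf3
        refine fin 5 e1 f1 e2 f2 e3 f3 hb1 hb2 hb3 ⟨a2.1, a2.2, b2.1, b2.2⟩ ⟨a3.1, a3.2, b3.1, b3.2⟩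
          ⟨h32a, h32b, h32c, h32d⟩ ?_ ?_
        · intro i
          fin_cases i
          · simp [bm, mk, bF, ix, hTe1, Fin.sum_univ_three]
          · simp [bm, mk, bF, ix, hTe2, Fin.sum_univ_three]
          · simp [bm, mk, bF, ix, hTe3, Fin.sum_univ_three]
        · intro i
          fin_cases i
          · simp [bm, mk, bF, ix, hTf1, Fin.sum_univ_three]
          · simp [bm, mk, bF, ix, hTf2, Fin.sum_univ_three]
          · simp [bm, mk, bF, ix, hTf3, Fin.sum_univ_three]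
      · push Not at h3
        obtain ⟨e2, he2, f2, hf2, hb2⟩ := step_i Bf hnd1 hne1
        have a2 := (hW1 e2).1 he2
        have b2 := (hW1 f2).1 hf2
        obtain ⟨W2, hW2, hnd2, hne2, -⟩ := split2 e1 f1 e2 f2 hb1 hb2 ⟨a2.1, a2.2, b2.1, b2.2⟩
        obtain ⟨e3, he3, f3, hf3, hb3⟩ := step_i Bf hnd2 hne2
        have a3 := (hW2 e3).1 he3
        have b3 := (hW2 f3).1 hf3
        have hTe2 := h3 e2 he2
        have hTf2 := h3 f2 hf2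
        have hTe3 := h3 e3 ((hW1 e3).2 a3.1)
        have hTf3 := h3 f3 ((hW1 f3).2 b3.1)
        refine fin 1 e1 f1 e2 f2 e3 f3 hb1 hb2 hb3 ⟨a2.1, a2.2, b2.1, b2.2⟩ ⟨a3.1.1, a3.1.2, b3.1.1, b3.1.2⟩
          ⟨a3.2.1, a3.2.2, b3.2.1, b3.2.2⟩ ?_ ?_
        · intro i
          fin_cases i
          · simp [bm, mk, bF, ix, hTe1, Fin.sum_univ_three]
          · simp [bm, mk, bF, ix, hTe2, Fin.sum_univ_three]
          · simp [bm, mk, bF, ix, hTe3, Fin.sum_univ_three]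
        · intro i
          fin_cases i
          · simp [bm, mk, bF, ix, hTf1, Fin.sum_univ_three]
          · simp [bm, mk, bF, ix, hTf2, Fin.sum_univ_three]
          · simp [bm, mk, bF, ix, hTf3, Fin.sum_univ_three]
  · push Not at h1
    by_cases h2 : ∃ w ∈ (⊤ : Submodule (ZMod 2) (Fin 3 ⊕ Fin 3 → ZMod 2)), T w ≠ w
    · obtain ⟨e1, -, f1, -, e2, -, f2, -, hb1, hb2, h21a, h21b, h21c, h21d, hTe1, hTf1, hTe2, hTf2⟩ :=
        step_w Bf halt T hT hT2 (W := ⊤) (fun _ _ => trivial) hnd h1 h2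
      obtain ⟨W2, hW2, hnd2, hne2, hsp2⟩ := split2 e1 f1 e2 f2 hb1 hb2 ⟨h21a, h21b, h21c, h21d⟩
      have hTW2 : ∀ w ∈ W2, T w ∈ W2 := by
        intro w hw
        obtain ⟨⟨w1, w2⟩, w3, w4⟩ := (hW2 w).1 hw
        rw [hW2, hadj, hadj, hadj, hadj, hTe1, hTf1, hTe2, hTf2, map_add, map_add, w1, w2, w3, w4]
        exact ⟨⟨add_zero 0, rfl⟩, add_zero 0, rfl⟩
      obtain ⟨e3, he3, f3, hf3, hb3⟩ := step_i Bf hnd2 hne2
      have a3 := (hW2 e3).1 he3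
      have b3 := (hW2 f3).1 hf3
      have hTe3 := plane W2 hTW2 (fun v _ => h1 v trivial) hsp2 e3 he3 f3 hf3 hb3
      have hTf3 := plane W2 hTW2 (fun v _ => h1 v trivial) hsp2 f3 hf3 e3 he3 (by rw [hsymm, hb3])
      refine fin 4 e1 f1 e2 f2 e3 f3 hb1 hb2 hb3 ⟨h21a, h21b, h21c, h21d⟩ ⟨a3.1.1, a3.1.2, b3.1.1, b3.1.2⟩
        ⟨a3.2.1, a3.2.2, b3.2.1, b3.2.2⟩ ?_ ?_
      · intro i
        fin_cases i
        · simp [bm, mk, bF, ix, hTe1, Fin.sum_univ_three]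
        · simp [bm, mk, bF, ix, hTe2, Fin.sum_univ_three]
        · simp [bm, mk, bF, ix, hTe3, Fin.sum_univ_three]
      · intro i
        fin_cases i
        · simp [bm, mk, bF, ix, hTf1, Fin.sum_univ_three]
        · simp [bm, mk, bF, ix, hTf2, Fin.sum_univ_three]
        · simp [bm, mk, bF, ix, hTf3, Fin.sum_univ_three]
    · push Not at h2
      obtain ⟨e1, -, f1, -, hb1⟩ := step_i Bf hnd ⟨Pi.single (Sum.inl 0) 1, trivial, by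
        intro h
        have := congrFun h (Sum.inl 0)
        simp at this⟩
      obtain ⟨W1, hW1, hnd1, hne1, -⟩ := split1 e1 f1 hb1
      obtain ⟨e2, he2, f2, hf2, hb2⟩ := step_i Bf hnd1 hne1
      have a2 := (hW1 e2).1 he2
      have b2 := (hW1 f2).1 hf2
      obtain ⟨W2, hW2, hnd2, hne2, -⟩ := split2 e1 f1 e2 f2 hb1 hb2 ⟨a2.1, a2.2, b2.1, b2.2⟩
      obtain ⟨e3, he3, f3, hf3, hb3⟩ := step_i Bf hnd2 hne2
      have a3 := (hW2 e3).1 he3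
      have b3 := (hW2 f3).1 hf3
      refine fin 0 e1 f1 e2 f2 e3 f3 hb1 hb2 hb3 ⟨a2.1, a2.2, b2.1, b2.2⟩ ⟨a3.1.1, a3.1.2, b3.1.1, b3.1.2⟩
        ⟨a3.2.1, a3.2.2, b3.2.1, b3.2.2⟩ ?_ ?_
      · intro i
        fin_cases i
        · simp [bm, mk, bF, ix, h2 e1 trivial, Fin.sum_univ_three]
        · simp [bm, mk, bF, ix, h2 e2 trivial, Fin.sum_univ_three]
        · simp [bm, mk, bF, ix, h2 e3 trivial, Fin.sum_univ_three]
      · intro i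
        fin_cases i
        · simp [bm, mk, bF, ix, h2 f1 trivial, Fin.sum_univ_three]
        · simp [bm, mk, bF, ix, h2 f2 trivial, Fin.sum_univ_three]
        · simp [bm, mk, bF, ix, h2 f3 trivial, Fin.sum_univ_three]

/-- **conjugacy** -/
theorem exists_conj (a : X) (ha : orderOf a = 2) : ∃ (g b : X) (κ : Fin 6), g⁻¹ * a * g = b ∧
    (b : Matrix (Fin 3 ⊕ Fin 3) (Fin 3 ⊕ Fin 3) (ZMod 2)) = bm κ ∧ κ ≠ 0 := by
  have ha2 : a * a = 1 := by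
    rw [← pow_two]
    exact orderOf_dvd_iff_pow_eq_one.1 ha.dvd
  obtain ⟨c, κ, hc, hκ⟩ := exists_basis (a := a) (SymplecticGroup.mem_iff'.1 a.2) (congrArg Subtype.val ha2)
  let g : Matrix (Fin 3 ⊕ Fin 3) (Fin 3 ⊕ Fin 3) (ZMod 2) := fun i j => c j i
  have hg : g ∈ symplecticGroup (Fin 3) (ZMod 2) := by
    rw [SymplecticGroup.mem_iff']
    ext i j
    rw [Matrix.mul_mul_apply, ← hc i j]
    rfl
  have hag : (a : Matrix (Fin 3 ⊕ Fin 3) (Fin 3 ⊕ Fin 3) (ZMod 2)) * g = g * bm κ := by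
    ext i j
    have h1 : ((a : Matrix (Fin 3 ⊕ Fin 3) (Fin 3 ⊕ Fin 3) (ZMod 2)) * g) i j = ((a : Matrix _ _ _) *ᵥ c j) i := rfl
    have h2 : (g * bm κ) i j = ∑ k, c k i * bm κ k j := rfl
    rw [h1, h2, hκ j, Finset.sum_apply]
    exact Finset.sum_congr rfl fun k _ => mul_comm _ _
  refine ⟨⟨g, hg⟩, (⟨g, hg⟩ : X)⁻¹ * a * ⟨g, hg⟩, κ, rfl, ?_, ?_⟩
  · have h1 : (((⟨g, hg⟩ : X) * ((⟨g, hg⟩ : X)⁻¹ * a * ⟨g, hg⟩) : X) : Matrix (Fin 3 ⊕ Fin 3) (Fin 3 ⊕ Fin 3) (ZMod 2)) =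
        g * bm κ := by
      have : (⟨g, hg⟩ : X) * ((⟨g, hg⟩ : X)⁻¹ * a * ⟨g, hg⟩) = a * ⟨g, hg⟩ := by group
      rw [this]
      exact hag
    have h3 : (((⟨g, hg⟩ : X)⁻¹ : X) : Matrix (Fin 3 ⊕ Fin 3) (Fin 3 ⊕ Fin 3) (ZMod 2)) * g = 1 :=
      congrArg Subtype.val (inv_mul_cancel (⟨g, hg⟩ : X))
    have h4 := congrArg (fun m => (((⟨g, hg⟩ : X)⁻¹ : X) : Matrix (Fin 3 ⊕ Fin 3) (Fin 3 ⊕ Fin 3) (ZMod 2)) * m) h1
    have h5 : ((((⟨g, hg⟩ : X)⁻¹ * ((⟨g, hg⟩ : X) * ((⟨g, hg⟩ : X)⁻¹ * a * ⟨g, hg⟩))) : X) :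
        Matrix (Fin 3 ⊕ Fin 3) (Fin 3 ⊕ Fin 3) (ZMod 2)) = bm κ := by
      refine h4.trans ?_
      rw [← Matrix.mul_assoc, h3, Matrix.one_mul]
    rwa [inv_mul_cancel_left] at h5
  · rintro rfl
    rw [bm_zero, Matrix.mul_one] at hag
    have h1 : a * (⟨g, hg⟩ : X) = ⟨g, hg⟩ := Subtype.ext hag
    have h2 : a = 1 := mul_eq_right.1 h1
    rw [h2, orderOf_one] at ha
    omega

theorem row2_X : Row23 2 X := by
  intro x hx _ hP _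
  obtain ⟨a, rfl⟩ := inner x
  have ha : orderOf a = 2 :=
    (orderOf_injective _ (H839.Rad.conj_injective center_eq_bot) a).symm.trans hx
  obtain ⟨g, b, κ, hgb, hb, hκ⟩ := exists_conj a ha
  have hgb' : g⁻¹ * a * g⁻¹⁻¹ = b := by rw [inv_inv, hgb]
  have hPb : PS 4 (MulAut.conj b) := by
    rw [← hgb']
    exact H839.Rad.ps_conj hP g⁻¹
  have ho : orderOf b = 2 := by
    have h1 : b = MulAut.conj g⁻¹ a := by rw [MulAut.conj_apply, hgb']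
    have h2 : orderOf (MulAut.conj g⁻¹ a) = orderOf a := MulEquiv.orderOf_eq _ _
    exact (congrArg orderOf h1).trans (h2.trans ha)
  have hbb : b * b = 1 := by
    rw [← pow_two]
    exact orderOf_dvd_iff_pow_eq_one.1 ho.dvd
  have hb1 : b ≠ 1 := by
    rintro rfl
    rw [orderOf_one] at ho
    omega
  by_cases h1 : κ = 1
  · subst h1
    obtain ⟨-, c1, c2, c3, c4, c5⟩ := check_one
    let p : Fin 4 → X := fun i => ⟨mk (pF i), SymplecticGroup.mem_iff.2 (c1 i).1⟩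
    let q : Fin 4 → X := fun i => ⟨mk (qF i), SymplecticGroup.mem_iff.2 (c1 i).2.1⟩
    have hpq : ∀ i, p i * b * (p i)⁻¹ = q i := by
      intro i
      rw [mul_inv_eq_iff_eq_mul]
      apply Subtype.ext
      show mk (pF i) * (b : Matrix _ _ _) = mk (qF i) * mk (pF i)
      rw [hb, (c1 i).2.2]
    have hs := solvable_four center_eq_bot hPb p
    have hmem : ∀ i, q i ∈ Subgroup.closure (Set.range fun i => p i * b * (p i)⁻¹) := fun i =>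
      Subgroup.subset_closure ⟨i, hpq i⟩
    refine H959.Rad3.not_solvable_of_coprime (a := q 1 * q 2 * q 1 * q 3) (b := q 0 * q 2) (k := 1) (n := 5)
      (Subtype.ext c2) (by rw [pow_one]; exact Subtype.ext c3) (Subtype.ext c4) (by norm_num)
      (fun h => c5 (congrArg Subtype.val h)) ?_
    refine SignalizersComponents.ComponentExists.isSolvable_of_le ?_ hs
    rw [Subgroup.closure_le]
    rintro z (rfl | rfl)
    · exact mul_mem (mul_mem (mul_mem (hmem 1) (hmem 2)) (hmem 1)) (hmem 3)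
    · exact mul_mem (hmem 0) (hmem 2)
  · have h2 : 2 ≤ κ := by
      clear hb
      revert κ
      decide
    obtain ⟨-, ⟨c1, c2, c3, c4⟩, ⟨c5, c6⟩, ⟨c7, c8, c9⟩, c10, c11, c12⟩ := check κ h2
    let g' : X := ⟨mk (gF κ), SymplecticGroup.mem_iff.2 c1⟩
    let h' : X := ⟨mk (hF κ), SymplecticGroup.mem_iff.2 c2⟩
    let u' : X := ⟨mk (uF κ), SymplecticGroup.mem_iff.2 c3⟩
    let v' : X := ⟨mk (vF κ), SymplecticGroup.mem_iff.2 c4⟩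
    have e1 : g' * b * g'⁻¹ = u' := by
      rw [mul_inv_eq_iff_eq_mul]
      apply Subtype.ext
      show mk (gF κ) * (b : Matrix _ _ _) = mk (uF κ) * mk (gF κ)
      rw [hb, c5]
    have e2 : h' * b * h'⁻¹ = v' := by
      rw [mul_inv_eq_iff_eq_mul]
      apply Subtype.ext
      show mk (hF κ) * (b : Matrix _ _ _) = mk (vF κ) * mk (hF κ)
      rw [hb, c6]
    refine false_of_three center_eq_bot hbb hb1 hPb g' h' (l := (oF κ).1) (m := (oF κ).2.1) (n := (oF κ).2.2)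
      ?_ ?_ ?_ c10 c11 c12
    · rw [e1]
      apply Subtype.ext
      show ((b : Matrix _ _ _) * mk (uF κ)) ^ (oF κ).1 = 1
      rw [hb, c7]
    · rw [e1, e2]
      exact Subtype.ext c8
    · rw [e1, e2]
      apply Subtype.ext
      show ((b : Matrix _ _ _) * mk (uF κ) * mk (vF κ)) ^ (oF κ).2.2 = 1
      rw [hb, c9]

/-- **The row `Sp₆(2)`, involutions.** -/
theorem row2_sp62 {K : Type*} [Group K] [Finite K] [IsSimpleGroup K] {F : Type} [Field F] [Fintype F]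
    (hF : Fintype.card F = 2) (e : Nonempty (K ≃* Cfsg.PSp 3 F)) : Cfsg.Agent.H483.Rad23.Row23 2 K := by
  obtain ⟨e⟩ := e
  obtain ⟨e'⟩ := exists_equiv hF
  exact Row23.congr (e.trans e') row2_X

end Cfsg.Agent.H150.RadTwo.SpSix
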